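import Cfsg.Agent.J4Rep94.C19.Data

/-!
# Certificate data
-/

set_option autoImplicit false
set_option maxRecDepth 100000

namespace Cfsg.Agent.J4Rep94.C19

open Cfsg.Agent.CosetEnum

def fv0 : ℕ := 0x1000790007b0007d0007f0008100083000be000c000041000430004500047000490004b0000f000760007400072000700006e0006c0006a00068000660006400062000600005e0005c0005a00058000560005400052000500004e0004c000160002600004000bf00085000bc000030003e000010001f0000300082000800007e0007c0007a000ba0000500007000090000b0000a000b8000b6000b4000b2000b0000ae000ac000aa000a8000a6000a4000a2000a00009e0009c0009a00098000960009400092000900008e0008c0008a0008800086000100000e0000c0001d00006000020008400082000800007e0007c0007a000ba000070003c0003a00038000360003400032000300002e0002c0002a00028000260002400022000200001e0001c0001a00018000160001400012000100000e0000c0000a0000800006000040001d0000200001000780000100002000010000100000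
theorem fok0 : sys.checkFacts 93 5 fv0 = true := by decide +kernel


end Cfsg.Agent.J4Rep94.C19
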